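import Groth.Prelude.Def_FSRel
import Mathlib.RingTheory.Kaehler.Basic
import Mathlib.RingTheory.Derivation.ToSquareZero
import Mathlib.Algebra.TrivSqZeroExt.Basic
import Mathlib.LinearAlgebra.TensorProduct.Tower

/-!
# Relative formal smoothness and splitting of differentials
-/

universe u

open TrivSqZeroExt KaehlerDifferential
open scoped TensorProduct

namespace GrothLib.FSRel

variable {A B C : Type u} [CommRing A] [CommRing B] [CommRing C] [Algebra A B] [Algebra B C]
  [Algebra A C] [IsScalarTower A B C]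

theorem exists_extend_hom (l : Ω[C⁄A] →ₗ[C] C ⊗[B] Ω[B⁄A])
    (hl : l ∘ₗ mapBaseChange A B C = LinearMap.id) {C' : Type u} [CommRing C'] [Algebra A C']
    [Algebra C C'] [IsScalarTower A C C'] (J : Ideal C') (hJ : J ^ 2 = ⊥) (w : B →ₐ[A] C')
    (hw : ∀ b, w b - algebraMap C C' (algebraMap B C b) ∈ J) :
    ∃ v : C →ₐ[A] C', (∀ b, v (algebraMap B C b) = w b) ∧ ∀ c, v c - algebraMap C C' c ∈ J := by
  letI : Algebra B C' := ((algebraMap C C').comp (algebraMap B C)).toAlgebra
  haveI : IsScalarTower B C C' := IsScalarTower.of_algebraMap_eq fun _ => rfl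
  haveI : IsScalarTower A B C' := IsScalarTower.of_algebraMap_eq fun a => by
    rw [IsScalarTower.algebraMap_apply B C C', ← IsScalarTower.algebraMap_apply A B C,
      ← IsScalarTower.algebraMap_apply A C C']
  let d : Derivation A B J := derivationToSquareZeroOfLift J hJ w (AlgHom.ext fun b =>
    Ideal.Quotient.eq.2 (hw b))
  let D : Derivation A C J := (d.liftKaehlerDifferential.liftBaseChange C ∘ₗ l).compDer (KaehlerDifferential.D A C)
  refine ⟨liftOfDerivationToSquareZero J hJ D, fun b => ?_, fun c => ?_⟩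
  · have h1 : D (algebraMap B C b) = d b := by
      have h2 := LinearMap.congr_fun hl ((1 : C) ⊗ₜ KaehlerDifferential.D A B b)
      rw [LinearMap.comp_apply, mapBaseChange_tmul, map_D, one_smul, LinearMap.id_apply] at h2
      simp [D, h2, Derivation.liftKaehlerDifferential_comp_D]
    rw [liftOfDerivationToSquareZero_apply, h1, derivationToSquareZeroOfLift_apply,
      IsScalarTower.algebraMap_apply B C C', sub_add_cancel]
  · rw [liftOfDerivationToSquareZero_apply, add_sub_cancel_right]
    exact (D c).2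

theorem isFormallySmoothRel_of_leftInverse (l : Ω[C⁄A] →ₗ[C] C ⊗[B] Ω[B⁄A])
    (hl : l ∘ₗ mapBaseChange A B C = LinearMap.id) : EGA41.IsFormallySmoothRel A B C := by
  intro C' _ _ _ _ J hJ u₀ ⟨u, hu⟩
  letI : Algebra C C' := u.toRingHom.toAlgebra
  haveI : IsScalarTower A C C' := IsScalarTower.of_algebraMap_eq fun a => (u.commutes a).symm
  have hu' : ∀ c, Ideal.Quotient.mk J (u c) = u₀ c := AlgHom.congr_fun hu
  obtain ⟨v, hv, hv'⟩ := exists_extend_hom l hl J hJ (IsScalarTower.toAlgHom A B C') fun b => by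
    rw [← Ideal.Quotient.eq, show algebraMap C C' (algebraMap B C b) = u (algebraMap B C b) from rfl, hu',
      u₀.commutes]
    rfl
  refine ⟨{ v with commutes' := hv }, AlgHom.ext fun c => ?_⟩
  exact (Ideal.Quotient.eq.2 (hv' c)).trans (hu' c)

theorem exists_section (h : EGA41.IsFormallySmoothRel A B C) {T : Type u} [CommRing T] [Algebra A T]
    (j : B →ₐ[A] T) (π : T →ₐ[A] C) (s : C →ₐ[A] T) (hπs : ∀ c, π (s c) = c)
    (hπj : ∀ b, π (j b) = algebraMap B C b) (hsq : ∀ x y, π x = 0 → π y = 0 → x * y = 0) :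
    ∃ v : C →ₐ[A] T, (∀ c, π (v c) = c) ∧ ∀ b, v (algebraMap B C b) = j b := by
  letI : Algebra B T := j.toRingHom.toAlgebra
  haveI : IsScalarTower A B T := IsScalarTower.of_algebraMap_eq fun a => (j.commutes a).symm
  let π' : T →ₐ[B] C := { π with commutes' := hπj }
  have hsurj : Function.Surjective π' := fun c => ⟨s c, hπs c⟩
  have hJ : (RingHom.ker π'.toRingHom) ^ 2 = ⊥ := by
    rw [pow_two, eq_bot_iff, Ideal.mul_le]
    exact fun x hx y hy => Ideal.mem_bot.2 (hsq x y hx hy)
  let e : (T ⧸ RingHom.ker π'.toRingHom) ≃ₐ[B] C := Ideal.quotientKerAlgEquivOfSurjective hsurj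
  obtain ⟨v, hv⟩ := h T (RingHom.ker π'.toRingHom) hJ e.symm.toAlgHom
    ⟨s, AlgHom.ext fun c => e.injective ((hπs c).trans (e.apply_symm_apply c).symm)⟩
  exact ⟨v.restrictScalars A, fun c => (congrArg e (AlgHom.congr_fun hv c)).trans (e.apply_symm_apply c),
    v.commutes⟩

theorem exists_leftInverse (h : EGA41.IsFormallySmoothRel A B C) :
    ∃ l : Ω[C⁄A] →ₗ[C] C ⊗[B] Ω[B⁄A], l ∘ₗ mapBaseChange A B C = LinearMap.id := by
  suffices key : ∀ (M : Type u) [AddCommGroup M] [Module A M] [Module B M] [Module C M]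
      [IsScalarTower A C M] [IsScalarTower B C M] (d : Derivation A B M),
      ∃ D : Derivation A C M, ∀ b, D (algebraMap B C b) = d b by
    obtain ⟨D, hD⟩ := key (C ⊗[B] Ω[B⁄A])
      ((TensorProduct.mk B C Ω[B⁄A] 1).compDer (KaehlerDifferential.D A B))
    refine ⟨D.liftKaehlerDifferential, TensorProduct.AlgebraTensorModule.ext fun c ω => ?_⟩
    have key : ((D.liftKaehlerDifferential ∘ₗ mapBaseChange A B C).restrictScalars B) ∘ₗ
        TensorProduct.mk B C Ω[B⁄A] 1 = TensorProduct.mk B C Ω[B⁄A] 1 := by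
      refine Derivation.liftKaehlerDifferential_unique _ _ (Derivation.ext fun x => ?_)
      simp [Derivation.liftKaehlerDifferential_comp_D, hD]
    have h1 : c ⊗ₜ[B] ω = c • ((1 : C) ⊗ₜ[B] ω) := by rw [TensorProduct.smul_tmul', smul_eq_mul, mul_one]
    rw [h1, map_smul, LinearMap.id_apply]
    exact congrArg (c • ·) (LinearMap.congr_fun key ω)
  intro M _ _ _ _ _ _ d
  letI : Module Cᵐᵒᵖ M := Module.compHom M ((RingHom.id C).fromOpposite mul_comm)
  haveI : IsCentralScalar C M := ⟨fun _ _ => rfl⟩
  haveI : IsScalarTower A Cᵐᵒᵖ M := ⟨fun a r m => smul_assoc a (MulOpposite.unop r) m⟩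
  let j : B →ₐ[A] TrivSqZeroExt C M :=
    { toFun := fun b => inl (algebraMap B C b) + inr (d b)
      map_one' := by ext <;> simp
      map_mul' := fun x y => by
        ext
        · simp
        · simp [op_smul_eq_smul, Derivation.leibniz, algebraMap_smul]
      map_zero' := by ext <;> simp
      map_add' := fun x y => by ext <;> simp
      commutes' := fun a => by
        ext <;> simp [algebraMap_eq_inl', ← IsScalarTower.algebraMap_apply A B C] }
  obtain ⟨v, hfst, hvB⟩ := exists_section h j (TrivSqZeroExt.fstHom A C M) (TrivSqZeroExt.inlAlgHom A C M)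
    (fun c => by simp [TrivSqZeroExt.fstHom, TrivSqZeroExt.inlAlgHom])
    (fun b => by simp [j, TrivSqZeroExt.fstHom]) (fun x y hx hy => by
      have hx' : x.fst = 0 := hx
      have hy' : y.fst = 0 := hy
      ext <;> simp [hx', hy'])
  replace hfst : ∀ c, (v c).fst = c := hfst
  refine ⟨Derivation.mk'
    { toFun := fun c => (v c).snd
      map_add' := fun x y => by simp
      map_smul' := fun a x => by simp } ?_, fun b => ?_⟩
  · intro x y
    change (v (x * y)).snd = x • (v y).snd + y • (v x).snd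
    rw [map_mul, snd_mul, hfst, hfst, op_smul_eq_smul]
  · change (v (algebraMap B C b)).snd = d b
    rw [hvB]
    simp [j]

theorem baseChange_injective {Λ A B C : Type u} [CommRing Λ] [CommRing A] [CommRing B] [CommRing C]
    [Algebra Λ A] [Algebra Λ B] [Algebra A B] [IsScalarTower Λ A B] [Algebra B C]
    (h : EGA41.IsFormallySmoothRel Λ A B) :
    Function.Injective ((mapBaseChange Λ A B).baseChange C) := by
  obtain ⟨l, hl⟩ := exists_leftInverse h
  refine Function.LeftInverse.injective (g := l.baseChange C) fun z => ?_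
  rw [← LinearMap.comp_apply, ← LinearMap.baseChange_comp, hl, LinearMap.baseChange_id]
  rfl

end GrothLib.FSRel
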